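import Cfsg.Agent.Spor.M11a.L.D0

set_option autoImplicit false
set_option maxRecDepth 100000000
set_option Elab.async false

namespace Cfsg.Agent.Spor.M11a.L

theorem rel3 : U.rel 8 [1, 6, 1, 5] 0 8 = true := by decide +kernel

theorem rel4 : U.rel 8 [1, 8, 1, 7] 0 8 = true := by decide +kernel

theorem rel5 : U.rel 8 [1, 10, 1, 9] 0 8 = true := by decide +kernel

theorem uok5 : Net.okb 8 un5 = true := by decide +kernel

theorem rel6 : U.rel 8 [11, 1, 3, 3, 1, 3, 3, 1, 3, 3, 3, 3, 3, 3] 0 8 = true := by decide +kernel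

theorem uok6 : Net.okb 8 un6 = true := by decide +kernel

theorem rel7 : U.rel 8 [13, 3, 1, 3, 1, 3, 3, 1, 3, 1, 3, 3, 3, 1, 3, 1, 1, 3, 3, 1, 3, 1, 3, 1, 3, 1, 3] 0 8 = true := by decide +kernel

theorem gr9 : sub M8 (U.growI W1 [1, 1, 0, 1, 1, 0, 1, 1, 0, 1, 1, 0, 1, 1, 0, 1, 1, 0, 1, 1, 0] (Nat.shiftLeft 1 0)) = true := by decide +kernel

theorem cl11 : band (U.closedW W1 M8) (sub (Nat.shiftLeft 1 0) M8) = true := by decide +kernel

theorem sz12 : sizeOk 8 M8 165 = true := by decide +kernel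

theorem fx15 : U.closedW W14 (Nat.shiftLeft 1 0) = true := by decide +kernel

theorem gr17 : sub M16 (U.growI W14 [0, 1, 1, 0, 1, 1, 0, 1, 1, 0] (Nat.shiftLeft 1 18)) = true := by decide +kernel

theorem cl19 : band (U.closedW W14 M16) (sub (Nat.shiftLeft 1 18) M16) = true := by decide +kernel

theorem sz20 : sizeOk 8 M16 48 = true := by decide +kernel

end Cfsg.Agent.Spor.M11a.L
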