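import Cfsg.Agent.Spor.Prim
import Cfsg.Agent.Spor.M11a.Main
import Cfsg.Agent.Spor.M11a.L.C0
import Cfsg.Agent.Spor.TT2

set_option autoImplicit false
set_option maxRecDepth 100000000
set_option Elab.async false

namespace Cfsg.Agent.Spor.M11a.L

theorem hU : U.Ok 8 := U.ok_of 8 (show AllP (fun n => Net.okb 8 n = true) [n0, n1, n2, n3, n4, un5, un6] from AllP.cons ok0 (AllP.cons ok1 (AllP.cons ok2 (AllP.cons ok3 (AllP.cons ok4 (AllP.cons uok5 (AllP.cons uok6 (AllP.nil))))))))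

theorem hfP : ∀ j < 2, U.fP [1, 3] j = fP j := by
  intro j hj
  interval_cases j <;> rfl
theorem eG : gsub 2 fP = U.lsub W1 := (gsub_congr hfP).symm.trans (lsub_eq_gsub U [1, 3])
theorem upz1 : ev (atm 2 fP) [0] = U.τ 1 := pz1
theorem upz3 : ev (atm 2 fP) [2] = U.τ 3 := pz2
theorem upz5 : ev (atm 2 fP) [3, 3, 0, 3, 3, 0, 2, 2] = U.τ 5 := pz4
theorem upz7 : ev (atm 2 fP) [3, 0, 2, 0, 3, 0, 2, 0, 3, 0, 2] = U.τ 7 := pz6
theorem upz9 : ev (atm 2 fP) [2, 0, 3, 0, 2, 0, 3, 0, 2, 0, 3] = U.τ 9 := pz8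
theorem eH : wsub 2 fP BW = U.lsub W2 :=
  lsub_eq_of_all₂ (show List.Forall₂ _ [[3, 3, 0, 3, 3, 0, 2, 2], [3, 0, 2, 0, 3, 0, 2, 0, 3, 0, 2], [2, 0, 3, 0, 2, 0, 3, 0, 2, 0, 3]] [[5], [7], [9]] from List.Forall₂.cons (upz5.trans (one_mul _).symm) (List.Forall₂.cons (upz7.trans (one_mul _).symm) (List.Forall₂.cons (upz9.trans (one_mul _).symm) (List.Forall₂.nil))))
theorem vpz1 : PZ U (atm 2 fP) EXU 1 := pz1
theorem vpz2 : PZ U (atm 2 fP) EXU 2 := PZ.of_inv hiv vpz1 (by decide +kernel)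
theorem vpz3 : PZ U (atm 2 fP) EXU 3 := pz2
theorem vpz4 : PZ U (atm 2 fP) EXU 4 := PZ.of_inv hiv vpz3 (by decide +kernel)
theorem vpz5 : PZ U (atm 2 fP) EXU 5 := pz4
theorem vpz6 : PZ U (atm 2 fP) EXU 6 := PZ.of_inv hiv vpz5 (by decide +kernel)
theorem vpz7 : PZ U (atm 2 fP) EXU 7 := pz6
theorem vpz8 : PZ U (atm 2 fP) EXU 8 := PZ.of_inv hiv vpz7 (by decide +kernel)
theorem vpz9 : PZ U (atm 2 fP) EXU 9 := pz8
theorem vpz10 : PZ U (atm 2 fP) EXU 10 := PZ.of_inv hiv vpz9 (by decide +kernel)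
theorem hPZU : AllP (PZ U (atm 2 fP) EXU) LU :=
  show AllP (PZ U (atm 2 fP) EXU) [1, 2, 3, 4, 5, 6, 7, 8, 9, 10] from AllP.cons vpz1 (AllP.cons vpz2 (AllP.cons vpz3 (AllP.cons vpz4 (AllP.cons vpz5 (AllP.cons vpz6 (AllP.cons vpz7 (AllP.cons vpz8 (AllP.cons vpz9 (AllP.cons vpz10 (AllP.nil))))))))))
theorem hXN : ∀ l ∈ XN, ev (atm 2 fP) l = 1 :=
  relAll_sound hiv (W := [[1, 6, 1, 5], [1, 8, 1, 7], [1, 10, 1, 9]]) (rules := [⟨[1, 6, 1, 5], [], 0, true⟩, ⟨[1, 8, 1, 7], [], 1, true⟩, ⟨[1, 10, 1, 9], [], 2, true⟩]) hPZU (AllP.cons (hU.one rel3) (AllP.cons (hU.one rel4) (AllP.cons (hU.one rel5) (AllP.nil)))) (by decide +kernel)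
theorem reach10 : Reach (U.lsub W1) 0 M8 := (Reach.grow hU (Reach.base _ 0) gr9)
theorem orb13 : (orbS (U.lsub W1) 0).ncard = 165 := reach10.ncard hU cl11 sz12
theorem orb13e : orbS (U.lsub W1) 0 = {c | Nat.testBit M8 c = true} := reach10.orb hU cl11
theorem reach18 : Reach (U.lsub W14) 18 M16 := (Reach.grow hU (Reach.base _ 18) gr17)
theorem orb21 : (orbS (U.lsub W14) 18).ncard = 48 := reach18.ncard hU cl19 sz20
theorem orb21e : orbS (U.lsub W14) 18 = {c | Nat.testBit M16 c = true} := reach18.orb hU cl19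
theorem lb22 : 48 ∣ Nat.card (U.lsub W14) := dvd_card_orb orb21
theorem lb : 7920 ∣ Nat.card (U.lsub W1) :=
  dvd_card_step (s := 165) (M := 48) (B := U.lsub W14) (Tab.lsub_le_all (AllP.cons (mem_of_rel (hU.one rel6) (U.mem_letters (by decide))) (AllP.cons (mem_of_rel (hU.one rel7) (U.mem_letters (by decide))) (AllP.nil)))) (hU.fixes fx15) orb13 lb22

end Cfsg.Agent.Spor.M11a.L
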